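import Cfsg.Agent.H275.CS.Sharp

/-!
# The functionals on the root lattice of `E₆` modulo a prime (S5745, class sizes of `E₆(q)`; helper406)

* `Rf6 s` : the functionals `c mod s`, `c` in the fundamental alcove, `c₀ ≠ 0` or `c₀ = c₁ = c₆ = 0`; `meets`;
* `lam_mod` : `w λ ≡ λ` modulo `3 Q`, `λ = α₁ + 2 α₃ + α₅ + 2 α₆`;
* `corank_one` : if only `c₀` and `c_j` do not vanish, then `q ≡ ±1` modulo `s`, and `q ≡ 1`, `w = 1` for `j = 1, 6`;
* `npos_le` : the numbers of positive roots killed by `c mod s`.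
-/

set_option autoImplicit false
set_option linter.unusedSectionVars false
set_option maxRecDepth 100000

namespace Cfsg.Agent.H406.CS.E6

open CoxeterSystem Cfsg Cfsg.Lie Cfsg.Lie.ChevalleyDatum
open Cfsg.Agent.ChevalleyStructure Cfsg.Agent.ChevalleyStructure.Elts Cfsg.Agent.ChevalleyStructure.CoxeterGeom
  Cfsg.Agent.ChevalleyStructure.CoxeterGeomTypes Cfsg.Agent.ChevalleyStructure.NPerm
open Cfsg.Agent.Tits.Roots Cfsg.Agent.Tits.Core Cfsg.Agent.Nodes Cfsg.Agent.Nodes.Reps Cfsg.Agent.Nodes.BNOf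
  Cfsg.Agent.Nodes.RGDChev
open Cfsg.Agent.H129.TorusMain Cfsg.Agent.H972.CS.Main Cfsg.Agent.H931.KC

theorem hp6 : IsType chevE6 6 CoxeterMatrix.E₆ := by simp [IsType, typeList]

/-- the Coxeter system -/
abbrev cs6 : CoxeterSystem CoxeterMatrix.E₆ CoxeterMatrix.E₆.Group := CoxeterMatrix.E₆.toCoxeterSystem

theorem hr6 : hr chevE6 6 = ![1, 2, 2, 3, 2, 1] := by decide +kernel

/-- the lattice vector `λ` -/
def lam : Fin 6 → ℤ := ![1, 0, 2, 0, 1, 2]

theorem pairing_lam : ∀ i, (3 : ℤ) ∣ pairing (cartanOf chevE6 6) i lam := by decide +kernel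

/-- `w λ ≡ λ` modulo `3 Q` -/
theorem lam_mod (w : CoxeterMatrix.E₆.Group) : ∀ j, (3 : ℤ) ∣ rep cs6 hp6.isCartan w lam j - lam j := by
  obtain ⟨ω, rfl⟩ := cs6.wordProd_surjective w
  induction ω with
  | nil =>
    intro j
    rw [CoxeterSystem.wordProd_nil, map_one, Module.End.one_apply, sub_self]
    exact dvd_zero _
  | cons i ω ih =>
    intro j
    rw [CoxeterSystem.wordProd_cons, rep_mul_apply]
    set y := rep cs6 hp6.isCartan (cs6.wordProd ω) lam with hy
    rw [rep_simple_eq]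
    have h1 : (3 : ℤ) ∣ pairing (cartanOf chevE6 6) i y := by
      have h2 : pairing (cartanOf chevE6 6) i y = pairing (cartanOf chevE6 6) i (y - lam) +
          pairing (cartanOf chevE6 6) i lam := by rw [← pairing_add, sub_add_cancel]
      rw [h2]
      refine dvd_add ?_ (pairing_lam i)
      unfold pairing
      refine Finset.dvd_sum fun k _ => Dvd.dvd.mul_left ?_ _
      exact ih k
    have h3 : (y - pairing (cartanOf chevE6 6) i y • sr i) j - lam j =
        (y j - lam j) - pairing (cartanOf chevE6 6) i y * (sr i : Fin 6 → ℤ) j := by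
      rw [Pi.sub_apply, Pi.smul_apply, smul_eq_mul]
      ring
    rw [h3]
    exact dvd_sub (ih j) (Dvd.dvd.mul_right h1 _)

/-- the reduced word of the rotation of the extended diagram -/
def rotWord : List (Fin 6) := [0, 2, 3, 4, 5, 1, 3, 4, 2, 3, 0, 2, 1, 3, 4, 5]

/-- the action of a word -/
def act : List (Fin 6) → (Fin 6 → ℤ) → (Fin 6 → ℤ)
  | [], x => x
  | i :: ω, x => act ω x - pairing (cartanOf chevE6 6) i (act ω x) • (Pi.single i 1 : Fin 6 → ℤ)

theorem rep_word (ω : List (Fin 6)) (x : Fin 6 → ℤ) : rep cs6 hp6.isCartan (cs6.wordProd ω) x = act ω x := by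
  induction ω with
  | nil => rw [CoxeterSystem.wordProd_nil, map_one, Module.End.one_apply]; rfl
  | cons i ω ih => rw [CoxeterSystem.wordProd_cons, rep_mul_apply, rep_simple_eq, ih]; rfl

/-- the rotation -/
def rot : CoxeterMatrix.E₆.Group := cs6.wordProd rotWord

theorem rot_sr : ∀ i : Fin 6, act rotWord (Pi.single i 1) =
    ![Pi.single 5 1, Pi.single 2 1, Pi.single 4 1, Pi.single 3 1, Pi.single 1 1, -(hr chevE6 6)] i := by
  rw [hr6]
  decide +kernel

/-- the functional `c` modulo `s` -/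
def fc (s : ℕ) (c : Fin 6 → ℕ) (x : Fin 6 → ℤ) : ZMod s := ((∑ i, x i * (c i : ℤ) : ℤ) : ZMod s)

/-- the alcove representatives -/
def Rf6 (s : ℕ) : Set ((Fin 6 → ℤ) →+ ZMod s) :=
  {f | ∃ (c : Fin 6 → ℕ) (c0 : ℕ), Kac chevE6 6 s c c0 ∧ (∀ x, f x = fc s c x) ∧ (c0 = 0 → c 0 = 0 ∧ c 5 = 0)}

theorem apply_sr {s : ℕ} (f : (Fin 6 → ℤ) →+ ZMod s) (x : Fin 6 → ℤ) : f x = ∑ i, (x i : ZMod s) * f (sr i) := by
  conv_lhs => rw [Cfsg.Agent.H129.TorusChar.IsMC.eq_sum_sr x]
  rw [map_sum]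
  exact Finset.sum_congr rfl fun j _ => by rw [map_zsmul, zsmul_eq_mul]

theorem fc_eq (s : ℕ) (c : Fin 6 → ℕ) (x : Fin 6 → ℤ) : fc s c x = ∑ i, (x i : ZMod s) * (c i : ZMod s) := by
  unfold fc
  push_cast
  rfl

/-- rotating the Kac coordinates -/
theorem rotate {s : ℕ} {c : Fin 6 → ℕ} {c0 : ℕ} (K : Kac chevE6 6 s c c0) {f : (Fin 6 → ℤ) →+ ZMod s}
    (hf : ∀ x, f x = fc s c x) :
    Kac chevE6 6 s ![c 5, c 2, c 4, c 3, c 1, c0] (c 0) ∧
      ∀ x, f.comp (rep cs6 hp6.isCartan rot).toAddMonoidHom x = fc s ![c 5, c 2, c 4, c 3, c 1, c0] x := by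
  have hs := K.sum
  rw [hr6] at hs
  simp only [Fin.sum_univ_six, Matrix.cons_val] at hs
  refine ⟨⟨K.pos, ?_⟩, ?_⟩
  · rw [hr6]
    simp only [Fin.sum_univ_six, Matrix.cons_val]
    linarith
  · intro x
    have hs' : (c0 : ZMod s) + (c 0 + 2 * c 1 + 2 * c 2 + 3 * c 3 + 2 * c 4 + c 5) = 0 := by
      have h1 := congrArg (Int.cast : ℤ → ZMod s) hs
      push_cast at h1
      rw [ZMod.natCast_self] at h1
      rw [← h1]
      ring
    have key : ∀ i : Fin 6, f.comp (rep cs6 hp6.isCartan rot).toAddMonoidHom (sr i) =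
        ((![c 5, c 2, c 4, c 3, c 1, c0] : Fin 6 → ℕ) i : ZMod s) := by
      intro i
      have h1 : f.comp (rep cs6 hp6.isCartan rot).toAddMonoidHom (sr i) =
          f (act rotWord (Pi.single i 1)) := by
        show f (rep cs6 hp6.isCartan rot (sr i)) = _
        rw [rot, rep_word]
        rfl
      rw [h1, rot_sr, hf, fc_eq, hr6]
      fin_cases i <;> simp [Fin.sum_univ_six, Pi.single_apply]
      linear_combination -hs'
    rw [apply_sr, fc_eq]
    exact Finset.sum_congr rfl fun i _ => by rw [key]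

/-- **Every functional is conjugate to an alcove representative.** -/
theorem meets (s : ℕ) (hs : 0 < s) : Meets hp6 cs6 (Rf6 s) := by
  intro f
  have : NeZero s := ⟨hs.ne'⟩
  obtain ⟨w, c, c0, K, hc⟩ := exists_alcove hp6 hs (psi fun i => ((f (sr i)).val : ℤ))
  have hfb : ∀ x, ((psi (fun i => ((f (sr i)).val : ℤ)) x : ℤ) : ZMod s) = f x := by
    intro x
    rw [psi_apply, apply_sr f]
    push_cast
    exact Finset.sum_congr rfl fun i _ => by rw [ZMod.natCast_val, ZMod.cast_id]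
  have h1 : ∀ x, f.comp (rep cs6 hp6.isCartan w).toAddMonoidHom x = fc s c x := by
    intro x
    show f (rep cs6 hp6.isCartan w x) = _
    rw [← hfb, fc, eq_comm, ← sub_eq_zero, ← Int.cast_sub, ZMod.intCast_zmod_eq_zero_iff_dvd]
    exact hc x
  by_cases h0 : c0 = 0
  · by_cases h5 : c 0 = 0
    · by_cases h6 : c 5 = 0
      · exact ⟨w, c, c0, K, h1, fun _ => ⟨h5, h6⟩⟩
      · obtain ⟨K1, h2⟩ := rotate K h1
        obtain ⟨K2, h3⟩ := rotate K1 h2
        refine ⟨w * rot * rot, _, _, K2, fun x => ?_, fun h => absurd h ?_⟩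
        · rw [← h3]
          show f (rep cs6 hp6.isCartan (w * rot * rot) x) = _
          rw [rep_mul_apply, rep_mul_apply]
          rfl
        · exact h6
    · obtain ⟨K1, h2⟩ := rotate K h1
      refine ⟨w * rot, _, _, K1, fun x => ?_, fun h => absurd h h5⟩
      rw [← h2]
      show f (rep cs6 hp6.isCartan (w * rot) x) = _
      rw [rep_mul_apply]
      rfl
  · exact ⟨w, c, c0, K, h1, fun h => absurd h h0⟩

/-! ### the numbers of roots -/

/-- the positive roots -/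
def P6 : List (Fin 6 → ℤ) := ((List.finRange 72).map fun r : Fin 72 => vec chevE6 6 r.val).filter fun a => decide (∀ i, 0 ≤ a i)

/-- the roots killed, in terms of the pattern of zeros -/
def npat (z : Fin 6 → Bool) (z0 : Bool) : ℕ :=
  (P6.filter fun a => decide ((∀ i, a i ≠ 0 → z i = true) ∨
    (z0 = true ∧ ∀ i, a i ≠ (![1, 2, 2, 3, 2, 1] : Fin 6 → ℤ) i → z i = true))).length

theorem tab_two : ∀ z : Fin 6 → Bool, (∃ i j, i ≠ j ∧ z i = false ∧ z j = false) → npat z false ≤ 12 := by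
  decide +kernel

theorem tab_one : ∀ z : Fin 6 → Bool, (∃ j, j ≠ 0 ∧ j ≠ 5 ∧ z j = false) → npat z false ≤ 15 := by
  decide +kernel

theorem tab_zero : ∀ z : Fin 6 → Bool, z 0 = true → z 5 = true →
    (z 3 = false ∨ (∃ i j, i ≠ j ∧ z i = false ∧ z j = false)) → npat z true ≤ 9 := by
  decide +kernel

theorem psi_le {s : ℕ} {c : Fin 6 → ℕ} {c0 : ℕ} (K : Kac chevE6 6 s c c0) {f : (Fin 6 → ℤ) →+ ZMod s}
    (hf : ∀ x, f x = fc s c x) :
    (psi cs6 hp6.isCartan f).ncard ≤ npat (fun i => decide (c i = 0)) (decide (c0 = 0)) := by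
  classical
  unfold npat
  set L := P6.filter fun a => decide ((∀ i, a i ≠ 0 → (fun i => decide (c i = 0)) i = true) ∨
    (decide (c0 = 0) = true ∧ ∀ i, a i ≠ (![1, 2, 2, 3, 2, 1] : Fin 6 → ℤ) i → (fun i => decide (c i = 0)) i = true))
    with hL
  refine le_trans ?_ (List.toFinset_card_le L)
  rw [← Set.ncard_coe_finset]
  refine Set.ncard_le_ncard ?_ (Finset.finite_toSet _)
  rintro a ⟨ha, h0, hfa⟩
  rw [Finset.mem_coe, List.mem_toFinset, hL, List.mem_filter]
  obtain ⟨r, hr', rfl⟩ := (isRoot_iff hp6 cs6 a).1 ha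
  refine ⟨?_, ?_⟩
  · refine List.mem_filter.2 ⟨List.mem_map.2 ⟨⟨r, hr'⟩, List.mem_finRange _, rfl⟩, ?_⟩
    exact decide_eq_true h0
  · have h1 : (s : ℤ) ∣ ∑ i, vec chevE6 6 r i * (c i : ℤ) := by
      rw [← ZMod.intCast_zmod_eq_zero_iff_dvd]
      exact (hf _).symm.trans hfa
    have h2 := (dvd_iff hp6 K ha h0).1 h1
    rw [hr6] at h2
    refine decide_eq_true ?_
    rcases h2 with h2 | ⟨h2, h3⟩
    · exact Or.inl fun i hi => decide_eq_true (h2 i hi)
    · exact Or.inr ⟨decide_eq_true h2, fun i hi => decide_eq_true (h3 i hi)⟩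

/-! ### corank one -/

theorem coord {w : CoxeterMatrix.E₆.Group} {j : Fin 6}
    (h : ∀ i, i ≠ j → rep cs6 hp6.isCartan w (sr i) j = 0) (y : Fin 6 → ℤ) :
    rep cs6 hp6.isCartan w y j = y j * rep cs6 hp6.isCartan w (sr j) j := by
  conv_lhs => rw [Cfsg.Agent.H129.TorusChar.IsMC.eq_sum_sr y]
  rw [map_sum, Finset.sum_apply, Finset.sum_eq_single j]
  · rw [map_zsmul, Pi.smul_apply, smul_eq_mul]
  · intro i _ hi
    rw [map_zsmul, Pi.smul_apply, h i hi, smul_zero]
  · intro h1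
    exact absurd (Finset.mem_univ j) h1

/-- **Corank one.** -/
theorem corank_one {s : ℕ} (hs : s.Prime) (h3 : 3 ≤ s) {c : Fin 6 → ℕ} {c0 : ℕ} (K : Kac chevE6 6 s c c0)
    {f : (Fin 6 → ℤ) →+ ZMod s} (hf : ∀ x, f x = fc s c x) (h0 : c0 ≠ 0) {j : Fin 6} (hj : c j ≠ 0)
    (hj' : ∀ i, i ≠ j → c i = 0) {q : ℕ} {w : CoxeterMatrix.E₆.Group}
    (hP : Pair hp6 cs6 (AddEquiv.refl (Fin 6 → ℤ)) q s f w) :
    ((q : ZMod s) = 1 ∨ (q : ZMod s) = -1) ∧ ((j = 0 ∨ j = 5) → (q : ZMod s) = 1 ∧ w = 1 ∧ f lam ≠ 0) := by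
  have : Fact s.Prime := ⟨hs⟩
  have hmul : ∀ y, f (rep cs6 hp6.isCartan w y) = q • f y := hP.mul
  have hfy : ∀ y : Fin 6 → ℤ, f y = (y j : ZMod s) * (c j : ZMod s) := by
    intro y
    rw [hf, fc_eq, Finset.sum_eq_single j]
    · intro i _ hi
      rw [hj' i hi, Nat.cast_zero, mul_zero]
    · intro h1
      exact absurd (Finset.mem_univ j) h1
  have hcj : c j < s := by
    have h1 := K.sum
    have h2 : hr chevE6 6 j * (c j : ℤ) ≤ ∑ i, hr chevE6 6 i * (c i : ℤ) :=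
      Finset.single_le_sum (f := fun i => hr chevE6 6 i * (c i : ℤ)) (fun i _ => by
        refine mul_nonneg ?_ (by positivity)
        rw [hr6]
        revert i
        decide) (Finset.mem_univ j)
    have h4 : 1 ≤ hr chevE6 6 j := by
      rw [hr6]
      exact (by decide : ∀ j : Fin 6, 1 ≤ (![1, 2, 2, 3, 2, 1] : Fin 6 → ℤ) j) j
    have h5 : (0 : ℤ) < c0 := by exact_mod_cast Nat.pos_of_ne_zero h0
    have h6 : (0 : ℤ) ≤ c j := by positivity
    have h7 : (c j : ℤ) < s := by nlinarith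
    exact_mod_cast h7
  have hcj0 : (c j : ZMod s) ≠ 0 := by
    intro h1
    rw [ZMod.natCast_eq_zero_iff] at h1
    exact hj (Nat.eq_zero_of_dvd_of_lt h1 hcj)
  -- the roots killed by `f`
  have hker : ∀ b, IsRoot cs6 hp6.isCartan b → f b = 0 → b j = 0 := by
    have key : ∀ b, IsRoot cs6 hp6.isCartan b → 0 ≤ b → f b = 0 → b j = 0 := by
      intro b hb hb0 hfb
      have h1 : (s : ℤ) ∣ ∑ i, b i * (c i : ℤ) := by
        rw [← ZMod.intCast_zmod_eq_zero_iff_dvd]
        exact (hf _).symm.trans hfb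
      rcases (dvd_iff hp6 K hb hb0).1 h1 with h2 | ⟨h2, -⟩
      · by_contra h4
        exact hj (h2 j h4)
      · exact absurd h2 h0
    intro b hb hfb
    rcases hb.pos_or_neg with h1 | h1
    · exact key b hb h1 hfb
    · have h2 := key (-b) hb.neg (neg_nonneg.2 h1) (by rw [map_neg, hfb, neg_zero])
      rw [Pi.neg_apply, neg_eq_zero] at h2
      exact h2
  have hfi : ∀ i, i ≠ j → f (sr i) = 0 := by
    intro i hi
    rw [hfy, sr_ne (Ne.symm hi), Int.cast_zero, zero_mul]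
  have hwi : ∀ i, i ≠ j → rep cs6 hp6.isCartan w (sr i) j = 0 := by
    intro i hi
    refine hker _ ((isRoot_sr cs6 hp6.isCartan i).act w) ?_
    rw [hmul, hfi i hi, smul_zero]
  have hco := coord hwi
  set m := rep cs6 hp6.isCartan w (sr j) j with hm
  have hm1 : m = 1 ∨ m = -1 := by
    have h1 := hco (rep cs6 hp6.isCartan w⁻¹ (sr j))
    rw [rep_apply_inv, sr_self] at h1
    exact Int.isUnit_iff.1 (IsUnit.of_mul_eq_one_right _ h1.symm)
  have hqm : (q : ZMod s) = (m : ZMod s) := by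
    have h1 := hmul (sr j)
    rw [hfy, hfy (sr j), sr_self, Int.cast_one, one_mul, nsmul_eq_mul] at h1
    exact (mul_right_cancel₀ hcj0 h1).symm
  refine ⟨?_, ?_⟩
  · rw [hqm]
    rcases hm1 with h1 | h1
    · left; rw [h1, Int.cast_one]
    · right; rw [h1, Int.cast_neg, Int.cast_one]
  · intro hj5
    have hlj : lam j = 1 ∨ lam j = 2 := by
      rcases hj5 with rfl | rfl
      · left; rfl
      · right; rfl
    have hm2 : m = 1 := by
      rcases hm1 with h1 | h1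
      · exact h1
      · exfalso
        have h2 := lam_mod w j
        rw [hco, h1] at h2
        rcases hlj with h4 | h4 <;> rw [h4] at h2 <;> omega
    refine ⟨by rw [hqm, hm2, Int.cast_one], ?_, ?_⟩
    · by_contra hw1
      obtain ⟨k, hk⟩ := cs6.exists_rightDescent_of_ne_one hw1
      have h1 : rep cs6 hp6.isCartan w (sr k) ≤ 0 := nonpos_of_lt cs6 hp6.isCartan w k hk
      by_cases hkj : k = j
      · subst hkj
        have h2 := h1 k
        rw [← hm, hm2] at h2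
        exact absurd h2 (by show ¬ (1 : ℤ) ≤ 0; norm_num)
      · have h2 : 0 ≤ rep cs6 hp6.isCartan w (sr k) :=
          hP.pos (sr k) (isRoot_sr cs6 hp6.isCartan k) (sr_nonneg k) (hfi k hkj)
        exact ((isRoot_sr cs6 hp6.isCartan k).act w).ne_zero (le_antisymm h1 h2)
    · rw [hfy]
      refine mul_ne_zero ?_ hcj0
      have h2 : ¬ (s : ℤ) ∣ lam j := by
        intro h4
        rcases hlj with h5 | h5 <;> rw [h5] at h4
        · have := Int.le_of_dvd (by norm_num) h4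
          omega
        · have := Int.le_of_dvd (by norm_num) h4
          omega
      intro h4
      exact h2 ((ZMod.intCast_zmod_eq_zero_iff_dvd _ _).1 h4)

/-- **The cases.** -/
theorem cases {s : ℕ} (hs : s.Prime) (h3 : 3 ≤ s) {f : (Fin 6 → ℤ) →+ ZMod s} (hfR : f ∈ Rf6 s) (hf0 : f ≠ 0)
    {q : ℕ} {w : CoxeterMatrix.E₆.Group} (hP : Pair hp6 cs6 (AddEquiv.refl (Fin 6 → ℤ)) q s f w) :
    (∃ c : (Fin 6 → ℤ) →+ ℤ, (∀ i, 0 ≤ c (sr i)) ∧ (∀ a, IsRoot cs6 hp6.isCartan a → c a < s) ∧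
      (∀ x, f x = 0 ↔ (s : ℤ) ∣ c x) ∧ ((psi cs6 hp6.isCartan f).ncard ≤ 12 ∨
        ((psi cs6 hp6.isCartan f).ncard ≤ 15 ∧ ((q : ZMod s) = 1 ∨ (q : ZMod s) = -1)) ∨
        ((q : ZMod s) = 1 ∧ w = 1 ∧ f lam ≠ 0))) ∨ (psi cs6 hp6.isCartan f).ncard ≤ 9 := by
  obtain ⟨c, c0, K, hf, hrot⟩ := hfR
  have hpsi := psi_le K hf
  have hsum := K.sum
  rw [hr6] at hsum
  simp only [Fin.sum_univ_six, Matrix.cons_val] at hsum
  by_cases h0 : c0 = 0
  · right
    obtain ⟨h5, h6⟩ := hrot h0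
    refine hpsi.trans ?_
    rw [decide_eq_true h0]
    refine tab_zero _ (decide_eq_true h5) (decide_eq_true h6) ?_
    by_cases h7 : c 3 = 0
    · right
      have hodd : ¬ 2 ∣ s := by
        intro h8
        have := (Nat.prime_dvd_prime_iff_eq Nat.prime_two hs).1 h8
        omega
      rw [h0, h5, h6, h7] at hsum
      exfalso
      apply hodd
      refine ⟨c 1 + c 2 + c 4, ?_⟩
      push_cast at hsum
      omega
    · left
      exact decide_eq_false h7
  · left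
    have H : Cfsg.Agent.H275.CS.Sharp.Alc chevE6 f c c0 := ⟨K, hf⟩
    refine ⟨Cfsg.Agent.H275.CS.Sharp.cf c, Cfsg.Agent.H275.CS.Sharp.cf_nonneg,
      fun a ha => Cfsg.Agent.H275.CS.Sharp.lt_of_c0 hp6 H h0 ha, fun x => Cfsg.Agent.H275.CS.Sharp.f_zero_iff H x, ?_⟩
    rw [decide_eq_false h0] at hpsi
    by_cases h2 : ∃ i j, i ≠ j ∧ c i ≠ 0 ∧ c j ≠ 0
    · left
      obtain ⟨i, j, hij, hi, hj⟩ := h2
      exact hpsi.trans (tab_two _ ⟨i, j, hij, decide_eq_false hi, decide_eq_false hj⟩)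
    · right
      have h1 : ∃ j, c j ≠ 0 := by
        by_contra hc
        push Not at hc
        apply hf0
        refine AddMonoidHom.ext fun x => ?_
        rw [hf, fc_eq]
        exact Finset.sum_eq_zero fun i _ => by rw [hc, Nat.cast_zero, mul_zero]
      obtain ⟨j, hj⟩ := h1
      have hj' : ∀ i, i ≠ j → c i = 0 := by
        intro i hi
        by_contra hc
        exact h2 ⟨i, j, hi, hc, hj⟩
      obtain ⟨a1, a2⟩ := corank_one hs h3 K hf h0 hj hj' hP
      by_cases h5 : j = 0 ∨ j = 5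
      · exact Or.inr (a2 h5)
      · left
        push Not at h5
        exact ⟨hpsi.trans (tab_one _ ⟨j, h5.1, h5.2, decide_eq_false hj⟩), a1⟩

end Cfsg.Agent.H406.CS.E6
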