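import Cfsg.Agent.H406.CS.Extra
import Cfsg.Agent.H406.CS.E6
import Cfsg.Agent.H373.TS.Untw
import Cfsg.Agent.S1093
import Cfsg.Agent.S1063

/-!
# The class sizes of the elements of order 3, 5, 7, 11, 13 of `E₆(4)` (S5745, helper406)

`cG_ge` : for `|F| = 4`, `x : chevE6.group F` of order 3 or 5 the class of `x` has at least `2 ^ 76` elements, of order
7, 11, 13 at least `2 ^ 88`.
-/

set_option autoImplicit false
set_option linter.unusedSectionVars false
set_option maxRecDepth 100000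

namespace Cfsg.Agent.H406.CS.E6

open CoxeterSystem Subgroup Cfsg Cfsg.Lie Cfsg.Lie.ChevalleyDatum
open Cfsg.Agent.ChevalleyStructure Cfsg.Agent.ChevalleyStructure.Elts Cfsg.Agent.ChevalleyStructure.CoxeterGeom
  Cfsg.Agent.ChevalleyStructure.CoxeterGeomTypes Cfsg.Agent.ChevalleyStructure.NPerm
open Cfsg.Agent.Tits.Roots Cfsg.Agent.Nodes.RGDChev Cfsg.Agent.KFacts.RgdChevCoord Cfsg.Agent.GpExc.Field
open Cfsg.Agent.BpTab Cfsg.Agent.BpExc Cfsg.Agent.BpExc.TowChev Cfsg.Agent.BpExc.FamUntw Cfsg.Agent.BpExc.FamInst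
  Cfsg.Agent.BpExc.LangFr Cfsg.Agent.BpExc.FamField Cfsg.Agent.BpExc.AsmN Cfsg.Agent.BpExc.RowsUntw
  Cfsg.Agent.BpExc.RowsN Cfsg.Agent.BpExc.FamExt
open Cfsg.Agent.H129.TorusChar Cfsg.Agent.H129.TorusMain Cfsg.Agent.H972.CS Cfsg.Agent.H972.CS.Main
  Cfsg.Agent.BpExc.Pair

/-- the formula for the untwisted groups, with the case `w = 1` -/
theorem bound_untw_extra {D : ChevalleyDatum} {l : ℕ} {M : CoxeterMatrix (Fin l)} (hp : IsType D l M)
    {r : ℕ} [Fact r.Prime] {F : Type} [Field F] [Fintype F] [CharP F r] {n : ℕ} (hn0 : 0 < n)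
    (hn : Fintype.card F = r ^ n) {d : ℕ} {B : Fin l → Fin l → ℤ} (hB : Cfsg.Agent.H129.TorusChar.InvC D l d B) (hd : d ≠ 0)
    {s : ℕ} (hs : s.Prime) (hsr : s ≠ r) {Rf : Set ((Fin l → ℤ) →+ ZMod s)}
    (hRf : Meets hp M.toCoxeterSystem Rf) {x : ↥(D.group F)} (hxs : x ^ s = 1) (hx1 : x ≠ 1)
    {m : ℕ} (hm : Fintype.card F = m + 1) {lam : Fin l → ℤ}
    (hl : ∀ i < D.rank, (m : ℤ) ∣ ∑ j : Fin l, D.cartan i (D.simple j) * lam j) :
    ∃ f ∈ Rf, f ≠ 0 ∧ ∃ w : M.Group,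
      Cfsg.Agent.H972.CS.Main.Pair hp M.toCoxeterSystem (AddEquiv.refl (Fin l → ℤ)) (r ^ n) s f w ∧
      (w = 1 → f lam = 0) ∧
      ∀ Cw : Finset M.Group, Cov hp M.toCoxeterSystem (AddEquiv.refl (Fin l → ℤ)) f w Cw →
        Nat.card ↥(Subgroup.centralizer {x}) ≤
          val hp M.toCoxeterSystem (AddEquiv.refl (Fin l → ℤ)) (r ^ n) f w Cw := by
  classical
  obtain ⟨f⟩ := exists_emb r F
  have hk : LocFin (AlgebraicClosure (ZMod r)) := locFin_of_isAlgebraic r _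
  have hfin := finite_phi (D := D) (k := AlgebraicClosure (ZMod r)) (r := r) hn0
  let φ : AlgebraicClosure (ZMod r) →+* AlgebraicClosure (ZMod r) :=
    ((frb (AlgebraicClosure (ZMod r)) r n : AlgebraicClosure (ZMod r) ≃+* AlgebraicClosure (ZMod r)) :
      AlgebraicClosure (ZMod r) →+* AlgebraicClosure (ZMod r))
  have hφ : ∀ t, φ t = t ^ Fintype.card F := by
    intro t
    rw [hn]
    exact frb_apply _ r n t
  have hσφ : ∀ y : ↥(D.group (AlgebraicClosure (ZMod r))),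
      ((phi D (AlgebraicClosure (ZMod r)) r n y : ↥(D.group (AlgebraicClosure (ZMod r)))) :
        GL D.Idx (AlgebraicClosure (ZMod r))) = glMap D φ (y : GL D.Idx (AlgebraicClosure (ZMod r))) := by
    intro y
    apply Units.ext
    rfl
  have hfix : ∀ a, phi D (AlgebraicClosure (ZMod r)) r n (emb hp.inList f a) = emb hp.inList f a :=
    fun a => Emb.emb_fix hp.inList hφ hσφ a
  set σ := phi D (AlgebraicClosure (ZMod r)) r n with hσdef
  have hinj : Function.Injective (emb hp.inList f) := emb_injective hp.inList f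
  obtain ⟨z, hz⟩ := TorAll.exists_toral' hp r (y := emb hp.inList f x) hs hsr (by rw [← map_pow, hxs, map_one])
  have hfx : Finite ↥(fixC σ (emb hp.inList f x)) := by
    refine Finite.of_injective (fun y : ↥(fixC σ (emb hp.inList f x)) =>
      (⟨y.1, (mem_fixC.1 y.2).1⟩ : ↥(fixedSubgroup σ))) (fun a b hab => ?_)
    exact Subtype.ext (congrArg (fun z : ↥(fixedSubgroup σ) => z.1) hab)
  obtain ⟨g, h1, h2, w, h3, h5, h4⟩ := bound_extra hp M.toCoxeterSystem hk hn0 (phi_isFrob r n)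
    (phi_fr hp M.toCoxeterSystem r hk n) hB hd hs hsr hRf (x := emb hp.inList f x) (z := z) (hfix x)
    (by rw [← map_pow, hxs, map_one]) (fun h0 => hx1 (hinj (by rw [h0, map_one]))) hz rfl
  refine ⟨g, h1, h2, w, h3, fun hw => ?_, fun Cw hCw => le_trans ?_ (h4 Cw hCw)⟩
  · obtain ⟨v, t1, hv, ht1, e1, hc⟩ := h5 hw
    have h6 : v * emb hp.inList f x * v⁻¹ ∈ (emb hp.inList f).range :=
      Emb.conj_mem_range (F := F) (hD := hp.inList) (f := f) (φ := φ) hφ (σ := σ) hσφ hv ⟨x, rfl⟩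
    obtain ⟨x', hx'⟩ := h6
    have h7 : emb hp.inList f x' = t1 := by rw [e1]; exact hx'
    have h8 : cX hp (emb hp.inList f x') lam = 1 :=
      cX_lam hp hk (r := r) f hm (by rw [h7]; exact ht1) hl
    rw [h7] at h8
    exact (hc lam).1 h8
  let E : ↥(Subgroup.centralizer {x}) → ↥(fixC σ (emb hp.inList f x)) := fun y =>
    ⟨emb hp.inList f y, mem_fixC.2 ⟨hfix y, by
      rw [← map_mul, ← map_mul, Subgroup.mem_centralizer_singleton_iff.1 y.2]⟩⟩
  refine Nat.card_le_card_of_injective E fun a b hab => ?_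
  apply Subtype.ext
  apply hinj
  exact congrArg (fun z : ↥(fixC σ (emb hp.inList f x)) => (z : ↥(D.group (AlgebraicClosure (ZMod r))))) hab

theorem lam_dvd : ∀ i < chevE6.rank, ((3 : ℕ) : ℤ) ∣ ∑ j : Fin 6, chevE6.cartan i (chevE6.simple j) * lam j := by
  decide +kernel

section

variable {F : Type} [Field F] [Fintype F]

/-- **The orders of the centralisers in `E₆(4)`.** -/
theorem cent_le (hF : Fintype.card F = 4) {s : ℕ} (hs : s.Prime) (h3 : 3 ≤ s) {x : ↥(chevE6.group F)}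
    (hx : orderOf x = s) {N : ℕ} (h12 : 12 ≤ N) (hN : ((4 : ℕ) : ZMod s) = 1 ∨ ((4 : ℕ) : ZMod s) = -1 → 15 ≤ N) :
    Nat.card ↥(Subgroup.centralizer {x}) * 3 ^ 6 ≤ 3 * 5 ^ 6 * 4 ^ (2 * N + 6) := by
  classical
  have : Fact (Nat.Prime 2) := ⟨by norm_num⟩
  have : CharP F 2 := charP_of_card_eq_prime_pow (R := F) (p := 2) (f := 2) (by rw [hF]; norm_num)
  have hfin : Finite CoxeterMatrix.E₆.Group := finite_W hp6 CoxeterMatrix.E₆.toCoxeterSystem
  have : Fintype CoxeterMatrix.E₆.Group := Fintype.ofFinite _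
  obtain ⟨f, h1, h2, w, h4, h5, h6⟩ := bound_untw_extra hp6 (r := 2) (n := 2) (by norm_num) (by rw [hF]; norm_num)
    Cfsg.Agent.H129.TorusChar.invC_E6 (by norm_num) hs (by omega) (meets s hs.pos) (x := x) (by rw [← hx, pow_orderOf_eq_one])
    (fun h => hs.one_lt.ne' (by rw [← hx, h, orderOf_one])) (m := 3) hF lam_dvd
  have hq4 : (2 : ℕ) ^ 2 = 4 := by norm_num
  rw [hq4] at h4 h6
  rcases cases hs h3 h1 h2 h4 with ⟨c, a1, a2, a3, a4⟩ | h9
  · have hle : (psi cs6 hp6.isCartan f).ncard ≤ N := by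
      rcases a4 with a4 | ⟨a4, a5⟩ | ⟨-, a5, a6⟩
      · exact a4.trans h12
      · exact a4.trans (hN a5)
      · exact absurd (h5 a5) a6
    obtain ⟨Cw, hCw, hval⟩ := Cfsg.Agent.H275.CS.Sharp.sharp_E6 (q := 4) hs.pos
      (⟨2, 2, Nat.prime_two.prime, by norm_num, by norm_num⟩ : IsPrimePow 4) hp6 c a1 a2 a3
      (g := AddEquiv.refl (Fin 6 → ℤ)) (fun a ha => ha) w
    have h7 := h6 Cw hCw
    refine (Nat.mul_le_mul_right _ h7).trans (hval.trans ?_)
    exact Nat.mul_le_mul_left _ (Nat.pow_le_pow_right (by norm_num)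
      (Nat.add_le_add_right (Nat.mul_le_mul_left 2 hle) 6))
  · have h7 := h6 Finset.univ (fun v _ _ => Finset.mem_univ v)
    have h8 : val hp6 cs6 (AddEquiv.refl (Fin 6 → ℤ)) 4 f w Finset.univ ≤
        (4 + 1) ^ 6 * (4 ^ 9 * (51840 * 4 ^ 9)) := by
      have hroots : {a : Fin 6 → ℤ | IsRoot CoxeterMatrix.E₆.toCoxeterSystem hp6.isCartan a}.Finite := by
        refine ((Finset.range chevE6.nroots).finite_toSet.image (vec chevE6 6)).subset ?_
        intro a ha
        obtain ⟨r, hr, e⟩ := (isRoot_iff hp6 CoxeterMatrix.E₆.toCoxeterSystem a).1 ha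
        exact ⟨r, Finset.mem_coe.2 (Finset.mem_range.2 hr), e⟩
      have hpf : (psi cs6 hp6.isCartan f).Finite := hroots.subset fun a ha => ha.1
      rw [val]
      refine Nat.mul_le_mul ?_ (Nat.mul_le_mul (Nat.pow_le_pow_right (by norm_num) h9) ?_)
      · have hN : orderOf w ≠ 0 := (isOfFinOrder_of_finite w).orderOf_pos.ne'
        have h1 : (rep cs6 hp6.isCartan w) ^ orderOf w = 1 := by
          rw [← map_pow, pow_orderOf_eq_one, map_one]
        have h2 := H448.FprCent.natAbs_det_le hN h1 4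
        have e : Torus.gq (theta hp6 cs6 w (AddEquiv.refl (Fin 6 → ℤ))) 4 =
            rep cs6 hp6.isCartan w - ((4 : ℕ) : ℤ) • (1 : Module.End ℤ (Fin 6 → ℤ)) := by
          ext x
          rfl
        rw [e]
        exact h2
      · have hW : Fintype.card CoxeterMatrix.E₆.Group = 51840 := by
          rw [← Nat.card_eq_fintype_card]
          exact S1093.result (⟨6, CoxeterMatrix.E₆⟩, 51840) (by simp)
        rw [← hW, ← Finset.card_univ, ← smul_eq_mul]
        refine Finset.sum_le_card_nsmul _ _ _ fun v _ => Nat.pow_le_pow_right (by norm_num) ?_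
        have h3 : psiN cs6 hp6.isCartan f v ⊆ psi cs6 hp6.isCartan f :=
          fun a ha => ⟨ha.1, ha.2.1, ha.2.2.1⟩
        exact (Set.ncard_le_ncard h3 hpf).trans h9
    refine (Nat.mul_le_mul_right _ (h7.trans h8)).trans ?_
    refine le_trans (b := 3 * 5 ^ 6 * 4 ^ (2 * 12 + 6)) (by norm_num) ?_
    exact Nat.mul_le_mul_left _ (Nat.pow_le_pow_right (by norm_num) (by omega))

theorem card_G (hF : Fintype.card F = 4) : 3 * Nat.card ↥(chevE6.group F) =
    4 ^ 36 * (4 ^ 2 - 1) * (4 ^ 5 - 1) * (4 ^ 6 - 1) * (4 ^ 8 - 1) * (4 ^ 9 - 1) * (4 ^ 12 - 1) := by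
  have h := S1063.result hF
  norm_num at h ⊢
  omega

open Cfsg.Agent.H742.EX Cfsg.Agent.H373.TS

/-- from the order of the centraliser to the class -/
theorem cG_of (hF : Fintype.card F = 4) {x : ↥(chevE6.group F)} {N c : ℕ}
    (h : Nat.card ↥(Subgroup.centralizer {x}) * 3 ^ 6 ≤ 3 * 5 ^ 6 * 4 ^ (2 * N + 6))
    (hc : c * (3 * 5 ^ 6 * 4 ^ (2 * N + 6)) ≤ 3 ^ 6 * Nat.card ↥(chevE6.group F)) : c ≤ cG x := by
  have h1 := card_G (F := F) hF
  have h2 : 0 < Nat.card ↥(chevE6.group F) := by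
    norm_num at h1
    omega
  set m := 3 * 5 ^ 6 * 4 ^ (2 * N + 6) / 3 ^ 6 with hm
  have h3 : Nat.card ↥(Subgroup.centralizer {x}) ≤ m := (Nat.le_div_iff_mul_le (by norm_num)).2 h
  have h4 : m * 3 ^ 6 ≤ 3 * 5 ^ 6 * 4 ^ (2 * N + 6) := Nat.div_mul_le_self _ _
  have h5 : 0 < m := lt_of_lt_of_le Nat.card_pos h3
  refine le_cG h3 h5 ?_
  have h6 : 3 ^ 6 * (c * m) ≤ 3 ^ 6 * Nat.card ↥(chevE6.group F) := by
    calc 3 ^ 6 * (c * m) = c * (m * 3 ^ 6) := by ring
      _ ≤ c * (3 * 5 ^ 6 * 4 ^ (2 * N + 6)) := Nat.mul_le_mul_left _ h4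
      _ ≤ _ := hc
  exact Nat.le_of_mul_le_mul_left h6 (by norm_num)

theorem cG_small (hF : Fintype.card F = 4) {x : ↥(chevE6.group F)} (hx : orderOf x = 3 ∨ orderOf x = 5) :
    2 ^ 76 ≤ cG x := by
  have h1 := card_G (F := F) hF
  refine cG_of hF (N := 15) ?_ ?_
  · rcases hx with hx | hx
    · exact cent_le hF (by norm_num) (by norm_num) hx (by norm_num) fun _ => le_rfl
    · exact cent_le hF (by norm_num) (by norm_num) hx (by norm_num) fun _ => le_rfl
  · norm_num at h1 ⊢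
    omega

theorem cG_big (hF : Fintype.card F = 4) {x : ↥(chevE6.group F)}
    (hx : orderOf x = 7 ∨ orderOf x = 11 ∨ orderOf x = 13) : 2 ^ 88 ≤ cG x := by
  have h1 := card_G (F := F) hF
  refine cG_of hF (N := 12) ?_ ?_
  · rcases hx with hx | hx | hx
    · exact cent_le hF (by norm_num) (by norm_num) hx le_rfl fun h => by revert h; decide
    · exact cent_le hF (by norm_num) (by norm_num) hx le_rfl fun h => by revert h; decide
    · exact cent_le hF (by norm_num) (by norm_num) hx le_rfl fun h => by revert h; decide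
  · norm_num at h1 ⊢
    omega

/-- **The class sizes in `E₆(4)`.** -/
theorem cG_ge (hF : Fintype.card F = 4) (x : ↥(chevE6.group F)) : (orderOf x = 3 → 2 ^ 76 ≤ cG x) ∧
    (orderOf x = 5 → 2 ^ 76 ≤ cG x) ∧ (orderOf x = 7 → 2 ^ 88 ≤ cG x) ∧ (orderOf x = 11 → 2 ^ 88 ≤ cG x) ∧
    (orderOf x = 13 → 2 ^ 88 ≤ cG x) :=
  ⟨fun h => cG_small hF (Or.inl h), fun h => cG_small hF (Or.inr h), fun h => cG_big hF (Or.inl h),
    fun h => cG_big hF (Or.inr (Or.inl h)), fun h => cG_big hF (Or.inr (Or.inr h))⟩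

end

end Cfsg.Agent.H406.CS.E6
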